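import Groth.Agent.HodgePnLib.Seq
import Groth.Agent.PnCohLib.Twist
import Groth.Agent.AtlasCohLib.FiniteCoh
import Groth.Agent.ProjFormLib.Proj

/-!
# The cohomology of the twisted differential forms on projective space
-/

set_option autoImplicit false
set_option linter.style.haveILetI false
set_option linter.unusedSectionVars false
set_option maxHeartbeats 1000000
set_option backward.isDefEq.respectTransparency false
set_option backward.isDefEq.respectTransparency.types false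
universe u

open CategoryTheory CategoryTheory.Limits AlgebraicGeometry TopologicalSpace Opposite

noncomputable section

namespace HodgePnLib

section General

variable {X : Scheme.{u}} {S : ShortComplex X.Modules} (hS : S.ShortExact)

include hS

theorem sub₁_zero (h : Subsingleton (Coh.HH X S.X₂ 0)) : Subsingleton (Coh.HH X S.X₁ 0) :=
  haveI : Subsingleton (Sheaf.H (S.map (QCohLib.toAbF X)).X₂ 0) := h
  (AtlasCoh.hMap_injective (QCohLib.toAbF_shortExact hS)).subsingleton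

theorem sub₁_succ {q : ℕ} (h₃ : Subsingleton (Coh.HH X S.X₃ q)) (h₂ : Subsingleton (Coh.HH X S.X₂ (q + 1))) :
    Subsingleton (Coh.HH X S.X₁ (q + 1)) :=
  subsingleton_of_forall_eq 0 fun y => by
    obtain ⟨x, rfl⟩ := AtlasCoh.hExact₁ (QCohLib.toAbF_shortExact hS) q y (h₂.elim _ _)
    rw [show x = 0 from h₃.elim x 0]
    exact map_zero (AtlasCoh.hδ (QCohLib.toAbF_shortExact hS) q)

theorem sub₃ {q : ℕ} (h₂ : Subsingleton (Coh.HH X S.X₂ q)) (h₁ : Subsingleton (Coh.HH X S.X₁ (q + 1))) :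
    Subsingleton (Coh.HH X S.X₃ q) :=
  subsingleton_of_forall_eq 0 fun y => by
    obtain ⟨x, rfl⟩ := AtlasCoh.hExact₃ (QCohLib.toAbF_shortExact hS) q y (h₁.elim _ _)
    rw [show x = 0 from h₂.elim x 0]
    exact map_zero (Sheaf.H.map ((S.map (QCohLib.toAbF X)).g) q)

end General

section Biprod

variable {X : Scheme.{u}}

theorem subsingleton_biproduct {ι : Type} [Fintype ι] (M : ι → X.Modules) (q : ℕ)
    (h : ∀ j, Subsingleton (Coh.HH X (M j) q)) : Subsingleton (Coh.HH X (⨁ M) q) :=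
  subsingleton_of_forall_eq 0 fun x => by
    let ev : ((⨁ M) ⟶ (⨁ M)) →+ Coh.HH X (⨁ M) q :=
      { toFun := fun φ => Sheaf.H.map ((QCohLib.toAbF X).map φ) q x
        map_zero' := by
          show Abelian.Ext.comp x (Abelian.Ext.mk₀ _) (add_zero q) = 0
          rw [Functor.map_zero, Abelian.Ext.mk₀_zero, Abelian.Ext.comp_zero]
        map_add' := fun f g => by
          show Abelian.Ext.comp x (Abelian.Ext.mk₀ _) (add_zero q) = _
          rw [Functor.map_add, Abelian.Ext.mk₀_add, Abelian.Ext.comp_add]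
          rfl }
    have h1 : ev (∑ j, biproduct.π M j ≫ biproduct.ι M j) = x := by
      rw [biproduct.total]
      show Sheaf.H.map ((QCohLib.toAbF X).map (𝟙 _)) q x = x
      rw [CategoryTheory.Functor.map_id]
      exact Sheaf.H.map_id_apply x
    rw [map_sum] at h1
    rw [← h1]
    refine Finset.sum_eq_zero fun j _ => ?_
    show Sheaf.H.map ((QCohLib.toAbF X).map (biproduct.π M j ≫ biproduct.ι M j)) q x = 0
    rw [Functor.map_comp, Sheaf.H.map_comp_apply]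
    have := h j
    rw [Subsingleton.elim (α := Coh.HH X (M j) q) (Sheaf.H.map ((QCohLib.toAbF X).map (biproduct.π M j)) q x) 0]
    exact map_zero (Sheaf.H.map ((QCohLib.toAbF X).map (biproduct.ι M j)) q)

theorem subsingleton_of_isZero {M : X.Modules} (h : IsZero M) (q : ℕ) : Subsingleton (Coh.HH X M q) :=
  subsingleton_of_forall_eq 0 fun x => by
    refine (Sheaf.H.map_id_apply x).symm.trans ?_
    show Abelian.Ext.comp x (Abelian.Ext.mk₀ _) (add_zero q) = 0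
    rw [(IsZero.iff_id_eq_zero _).1 ((QCohLib.toAbF X).map_isZero h), Abelian.Ext.mk₀_zero, Abelian.Ext.comp_zero]

end Biprod

section Linear

variable {A : Type u} [CommRing A] {X : Scheme.{u}} [X.Over (Spec (CommRingCat.of A))]

/-- Cohomology of isomorphic modules, linearly. -/
def hEquiv {M N : X.Modules} (e : M ≅ N) (q : ℕ) : Coh.HH X M q ≃ₗ[A] Coh.HH X N q :=
  LinearEquiv.ofBijective (AtlasCoh.hLin (X ↘ Spec (CommRingCat.of A)) e.hom q)
    ⟨Function.LeftInverse.injective (g := AtlasCoh.hLin (X ↘ Spec (CommRingCat.of A)) e.inv q) fun x => by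
      show Sheaf.H.map _ q (Sheaf.H.map _ q x) = x
      rw [← Sheaf.H.map_comp_apply, ← Functor.map_comp, e.hom_inv_id, CategoryTheory.Functor.map_id,
        Sheaf.H.map_id_apply],
    fun x => ⟨AtlasCoh.hLin (X ↘ Spec (CommRingCat.of A)) e.inv q x, by
      show Sheaf.H.map _ q (Sheaf.H.map _ q x) = x
      rw [← Sheaf.H.map_comp_apply, ← Functor.map_comp, e.inv_hom_id, CategoryTheory.Functor.map_id,
        Sheaf.H.map_id_apply]⟩⟩

/-- The connecting map, linearly. -/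
def delta {S : ShortComplex X.Modules} (hS : S.ShortExact) (p : ℕ) :
    Coh.HH X S.X₃ p →ₗ[A] Coh.HH X S.X₁ (p + 1) :=
  AtlasCoh.δLin hS (X ↘ Spec (CommRingCat.of A)) p

theorem delta_apply {S : ShortComplex X.Modules} (hS : S.ShortExact) (p : ℕ) (y : Coh.HH X S.X₃ p) :
    delta (A := A) hS p y = AtlasCoh.hδ (QCohLib.toAbF_shortExact hS) p y := rfl

theorem nonempty_delta_equiv {S : ShortComplex X.Modules} (hS : S.ShortExact) (p : ℕ)
    (h₂ : Subsingleton (Coh.HH X S.X₂ p)) (h₂' : Subsingleton (Coh.HH X S.X₂ (p + 1))) :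
    Nonempty (Coh.HH X S.X₃ p ≃ₗ[A] Coh.HH X S.X₁ (p + 1)) := by
  have hi : ∀ y, delta (A := A) hS p y = 0 → y = 0 := fun y hy => by
    rw [delta_apply] at hy
    obtain ⟨x, rfl⟩ := AtlasCoh.hExact₃ (QCohLib.toAbF_shortExact hS) p y hy
    rw [show x = 0 from h₂.elim x 0]
    exact map_zero (Sheaf.H.map ((S.map (QCohLib.toAbF X)).g) p)
  have hs : Function.Surjective (delta (A := A) hS p) := fun y => by
    obtain ⟨x, hx⟩ := AtlasCoh.hExact₁ (QCohLib.toAbF_shortExact hS) p y (h₂'.elim _ _)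
    exact ⟨x, (delta_apply hS p x).trans hx⟩
  exact ⟨LinearEquiv.ofBijective _ ⟨(injective_iff_map_eq_zero _).2 hi, hs⟩⟩

end Linear

variable (n : ℕ) (R : Type u) [CommRing R] [Nontrivial R] [QuasiSeparated (CohB1.ProjSpace.toSpec n R)]

local notation "P" => CohB1.ProjSpace n R
local notation "O'" => Twist.twistProjSpace n R

/-- The middle term, twisted. -/
abbrev midT (p : ℕ) (t : ℤ) : (CohB1.ProjSpace n R).Modules :=
  ⨁ fun _ : Fin ((n + 1).choose (p + 1)) => O' (t - (p + 1 : ℕ))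

theorem exists_seq_twist (p : ℕ) (t : ℤ) {A C : (CohB1.ProjSpace n R).Modules} (hA : IsOm n R (p + 1) A)
    (hC : IsOm n R p C) :
    ∃ T : ShortComplex (CohB1.ProjSpace n R).Modules, T.ShortExact ∧ Nonempty (T.X₁ ≅ CohB1.tensorMod A (O' t)) ∧
      Nonempty (T.X₂ ≅ midT n R p t) ∧ Nonempty (T.X₃ ≅ CohB1.tensorMod C (O' t)) := by
  obtain ⟨T, hT, ⟨i₁⟩, ⟨i₂⟩, ⟨i₃⟩⟩ := exists_omega_seq n R p hA hC
  let F := CurvLib.tensorLeft' (O' t)
  obtain ⟨e⟩ := PicPnLib.twist_add n R t (-((p + 1 : ℕ) : ℤ))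
  refine ⟨T.map F, HilbPolyLib.shortExact_tensor (PicPnLib.twist_inv n R t) hT,
    ⟨F.mapIso i₁ ≪≫ HilbPolyLib.swapIso _ _⟩, ⟨F.mapIso i₂ ≪≫ F.mapBiproduct _ ≪≫
      biproduct.mapIso fun _ => e ≪≫ eqToIso (congrArg O' (sub_eq_add_neg _ _).symm)⟩,
    ⟨F.mapIso i₃ ≪≫ HilbPolyLib.swapIso _ _⟩⟩

theorem sub_midT (p : ℕ) (t : ℤ) (q : ℕ) (h0 : ¬ (q = 0 ∧ ((p : ℤ) + 1 ≤ t)))
    (hn : ¬ (q = n ∧ t - ((p : ℤ) + 1) ≤ -((n : ℤ) + 1))) : Subsingleton (Coh.HH P (midT n R p t) q) :=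
  subsingleton_biproduct _ q fun _ =>
    PnCohLib.subsingleton_HH_twist (n := n) (R := R) (t - (p + 1 : ℕ)) q (by push_cast; omega) (by push_cast; omega)

theorem sub_isOm_zero (t : ℤ) (q : ℕ) {L : (CohB1.ProjSpace n R).Modules} (hL : IsOm n R 0 L)
    (h0 : ¬ (q = 0 ∧ 0 ≤ t)) (hn : ¬ (q = n ∧ t ≤ -((n : ℤ) + 1))) :
    Subsingleton (Coh.HH P (CohB1.tensorMod L (O' t)) q) := by
  obtain ⟨e⟩ := isOm_zero_iso n R hL
  obtain ⟨e'⟩ := PicPnLib.twist_add n R 0 t
  exact SerreVanLib.subsingleton_HH_of_iso (HilbPolyLib.congrLeft e _ ≪≫ e' ≪≫ eqToIso (congrArg O' (zero_add t))) q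
    (PnCohLib.subsingleton_HH_twist (n := n) (R := R) t q h0 hn)

theorem sub_isOm_big (t : ℤ) (p q : ℕ) (hp : n < p) {L : (CohB1.ProjSpace n R).Modules} (hL : IsOm n R p L) :
    Subsingleton (Coh.HH P (CohB1.tensorMod L (O' t)) q) :=
  SerreVanLib.subsingleton_HH_of_iso (HilbPolyLib.swapIso _ _) q
    (subsingleton_of_isZero ((CurvLib.tensorLeft' (O' t)).map_isZero (isZero_isOm n R hp hL)) q)

/-- Vanishing from above: positive twists and degrees above the dimension. -/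
theorem sub_desc (t : ℤ) : ∀ (d p : ℕ), n + 1 ≤ p + d → ∀ (q : ℕ) (L : (CohB1.ProjSpace n R).Modules),
    IsOm n R p L → (0 < t ∧ 0 < q ∨ n < q) → Subsingleton (Coh.HH P (CohB1.tensorMod L (O' t)) q)
  | 0, p, hd, q, L, hL, _ => sub_isOm_big n R t p q (by omega) hL
  | d + 1, p, hd, q, L, hL, hq => by
    by_cases hp : n < p
    · exact sub_isOm_big n R t p q hp hL
    obtain ⟨A, -, hA⟩ := exists_isOm n R (p + 1)
    obtain ⟨T, hT, ⟨i₁⟩, ⟨i₂⟩, ⟨i₃⟩⟩ := exists_seq_twist n R p t hA hL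
    refine SerreVanLib.subsingleton_HH_of_iso i₃.symm q (sub₃ hT ?_ ?_)
    · exact SerreVanLib.subsingleton_HH_of_iso i₂ q (sub_midT n R p t q (by omega) (by omega))
    · exact SerreVanLib.subsingleton_HH_of_iso i₁ (q + 1)
        (sub_desc t d (p + 1) (by omega) (q + 1) A hA (by omega))

/-- Vanishing from below. -/
theorem sub_asc (hn : 1 ≤ n) (t : ℤ) : ∀ (p q : ℕ) (L : (CohB1.ProjSpace n R).Modules), IsOm n R p L →
    (t = 0 ∧ p ≠ q ∧ q ≤ n ∨ t < 0 ∧ q < n ∨ t < 0 ∧ q = n ∧ (p : ℤ) - n ≤ t) →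
      Subsingleton (Coh.HH P (CohB1.tensorMod L (O' t)) q)
  | 0, q, L, hL, h => sub_isOm_zero n R t q hL (by omega) (by omega)
  | p + 1, 0, L, hL, h => by
    obtain ⟨C, -, hC⟩ := exists_isOm n R p
    obtain ⟨T, hT, ⟨i₁⟩, ⟨i₂⟩, ⟨i₃⟩⟩ := exists_seq_twist n R p t hL hC
    exact SerreVanLib.subsingleton_HH_of_iso i₁.symm 0
      (sub₁_zero hT (SerreVanLib.subsingleton_HH_of_iso i₂ 0 (sub_midT n R p t 0 (by omega) (by omega))))
  | p + 1, q + 1, L, hL, h => by
    by_cases hp : n < p + 1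
    · exact sub_isOm_big n R t (p + 1) (q + 1) hp hL
    obtain ⟨C, -, hC⟩ := exists_isOm n R p
    obtain ⟨T, hT, ⟨i₁⟩, ⟨i₂⟩, ⟨i₃⟩⟩ := exists_seq_twist n R p t hL hC
    refine SerreVanLib.subsingleton_HH_of_iso i₁.symm (q + 1) (sub₁_succ hT ?_ ?_)
    · exact SerreVanLib.subsingleton_HH_of_iso i₃ q (sub_asc hn t p q C hC (by omega))
    · exact SerreVanLib.subsingleton_HH_of_iso i₂ (q + 1) (sub_midT n R p t (q + 1) (by omega) (by omega))

/-- Removing a trivial twist. -/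
theorem tensor_zero_iso (L : (CohB1.ProjSpace n R).Modules) : Nonempty (CohB1.tensorMod L (O' 0) ≅ L) := by
  obtain ⟨e⟩ := PicPnLib.twist_zero n R
  exact ⟨HilbPolyLib.congrRight L e ≪≫ PicPnLib.unitRight L⟩

/-- `H^q(Ω^p) = 0` for `p ≠ q`. -/
theorem sub_untwisted (hn : 1 ≤ n) (p q : ℕ) (h : p ≠ q ∨ n < p) {L : (CohB1.ProjSpace n R).Modules}
    (hL : IsOm n R p L) : Subsingleton (Coh.HH P L q) := by
  obtain ⟨e⟩ := tensor_zero_iso n R L
  refine SerreVanLib.subsingleton_HH_of_iso e.symm q ?_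
  by_cases hp : n < p
  · exact sub_isOm_big n R 0 p q hp hL
  by_cases hq : n < q
  · exact sub_desc n R 0 (n + 1) p (by omega) q L hL (Or.inr hq)
  exact sub_asc n R hn 0 p q L hL (by omega)

/-- **`H^p(Ω^p)` is free of rank one.** -/
theorem nonempty_hodge_equiv (hn : 1 ≤ n) : ∀ (p : ℕ), p ≤ n → ∀ (L : (CohB1.ProjSpace n R).Modules),
    IsOm n R p L → Nonempty (Coh.HH P L p ≃ₗ[R] R)
  | 0, _, L, hL => by
    obtain ⟨e⟩ := isOm_zero_iso n R hL
    obtain ⟨f⟩ := PnCohLib.exists_HH_zero (n := n) (R := R) hn 0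
    haveI : Finite (PnCohLib.Deg n 0) := Nat.finite_of_card_ne_zero (by rw [PnCohLib.card_deg]; simp)
    haveI : Subsingleton (PnCohLib.Deg n 0) := Finite.card_le_one_iff_subsingleton.1 (by rw [PnCohLib.card_deg]; simp)
    haveI : Nonempty (PnCohLib.Deg n 0) := (Nat.card_pos_iff.1 (by rw [PnCohLib.card_deg]; simp)).1
    haveI : Unique (PnCohLib.Deg n 0) := uniqueOfSubsingleton (Classical.arbitrary _)
    exact ⟨(hEquiv (A := R) e 0).trans (f.trans (Finsupp.LinearEquiv.finsuppUnique R R (PnCohLib.Deg n 0)))⟩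
  | p + 1, hp, L, hL => by
    obtain ⟨C, -, hC⟩ := exists_isOm n R p
    obtain ⟨T, hT, ⟨i₁⟩, ⟨i₂⟩, ⟨i₃⟩⟩ := exists_seq_twist n R p 0 hL hC
    have h2 : ∀ q, Subsingleton (Coh.HH P T.X₂ q) := fun q =>
      SerreVanLib.subsingleton_HH_of_iso i₂ q (sub_midT n R p 0 q (by omega) (by omega))
    obtain ⟨δ⟩ := nonempty_delta_equiv (A := R) hT p (h2 p) (h2 (p + 1))
    obtain ⟨r⟩ := nonempty_hodge_equiv hn p (by omega) C hC
    obtain ⟨zL⟩ := tensor_zero_iso n R L
    obtain ⟨zC⟩ := tensor_zero_iso n R C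
    exact ⟨(hEquiv (A := R) (zL.symm ≪≫ i₁.symm) (p + 1)).trans (δ.symm.trans
      ((hEquiv (A := R) (i₃ ≪≫ zC) p).trans r))⟩

end HodgePnLib
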