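import Groth.Agent.HodgePnLib.Vanish
import Groth.Agent.CurvLib.Euler
import Groth.Agent.PnCohLib.Hypersurface

/-!
# The Bott formulas
-/

set_option autoImplicit false
set_option linter.style.haveILetI false
set_option linter.unusedSectionVars false
set_option maxHeartbeats 1000000
set_option backward.isDefEq.respectTransparency false
set_option backward.isDefEq.respectTransparency.types false
universe u

open CategoryTheory CategoryTheory.Limits AlgebraicGeometry TopologicalSpace Opposite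

noncomputable section

namespace HodgePnLib

section Gen

variable {k : Type u} [Field k] {X : Scheme.{u}} [X.Over (Spec (CommRingCat.of k))]

theorem finrank_middle_zero [IsProper (X ↘ Spec (CommRingCat.of k))] {S : ShortComplex X.Modules} (hS : S.ShortExact)
    (hc : Coh.IsCoh S.X₂) (h₁ : Subsingleton (Coh.HH X S.X₁ 1)) :
    Module.finrank k (Coh.HH X S.X₂ 0) =
      Module.finrank k (Coh.HH X S.X₁ 0) + Module.finrank k (Coh.HH X S.X₃ 0) := by
  haveI := CurvLib.finite_HH (k := k) hc 0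
  have hs : LinearMap.range (CurvLib.hMap (k := k) S.g 0) = ⊤ := by
    rw [CurvLib.exact₃ hS 0, LinearMap.ker_eq_top]
    exact LinearMap.ext fun x => h₁.elim _ _
  rw [← LinearMap.finrank_range_add_finrank_ker (CurvLib.hMap (k := k) S.g 0), hs, finrank_top,
    ← CurvLib.exact₂ hS 0, LinearMap.finrank_range_of_inj (CurvLib.injective₀ hS), add_comm]

theorem finrank_of_exact {V W U T R : Type u} [AddCommGroup V] [Module k V] [AddCommGroup W] [Module k W]
    [AddCommGroup U] [Module k U] [AddCommGroup T] [Module k T] [AddCommGroup R] [Module k R] [FiniteDimensional k W]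
    {a : T →ₗ[k] V} {f : V →ₗ[k] W} {g : W →ₗ[k] U} {b : U →ₗ[k] R}
    (ha : LinearMap.range a = LinearMap.ker f) (hf : LinearMap.range f = LinearMap.ker g)
    (hg : LinearMap.range g = LinearMap.ker b) (hT : Subsingleton T) (hR : Subsingleton R) :
    Module.finrank k W = Module.finrank k V + Module.finrank k U := by
  have hs : LinearMap.range g = ⊤ := by
    rw [hg, LinearMap.ker_eq_top]
    exact LinearMap.ext fun x => hR.elim _ _
  have hi : LinearMap.ker f = ⊥ := by
    rw [← ha, LinearMap.range_eq_bot]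
    exact LinearMap.ext fun x => by rw [hT.elim x 0, map_zero, map_zero]
  rw [← LinearMap.finrank_range_add_finrank_ker g, hs, finrank_top, ← hf,
    LinearMap.finrank_range_of_inj (LinearMap.ker_eq_bot.1 hi), add_comm]

theorem finrank_middle_top [IsProper (X ↘ Spec (CommRingCat.of k))] {S : ShortComplex X.Modules} (hS : S.ShortExact)
    (hc : Coh.IsCoh S.X₂) (m : ℕ) (h₃ : Subsingleton (Coh.HH X S.X₃ m))
    (h₁ : Subsingleton (Coh.HH X S.X₁ (m + 1 + 1))) :
    Module.finrank k (Coh.HH X S.X₂ (m + 1)) =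
      Module.finrank k (Coh.HH X S.X₁ (m + 1)) + Module.finrank k (Coh.HH X S.X₃ (m + 1)) :=
  haveI := CurvLib.finite_HH (k := k) hc (m + 1)
  finrank_of_exact (CurvLib.exact₁ (k := k) hS m) (CurvLib.exact₂ (k := k) hS (m + 1))
    (CurvLib.exact₃ (k := k) hS (m + 1)) h₃ h₁

/-- The components of a class on a direct sum. -/
def comps {r : ℕ} (M : Fin r → X.Modules) (q : ℕ) : Coh.HH X (⨁ M) q →ₗ[k] ∀ j, Coh.HH X (M j) q :=
  LinearMap.pi fun j => CurvLib.hMap (k := k) (biproduct.π M j) q

theorem comps_apply {r : ℕ} (M : Fin r → X.Modules) (q : ℕ) (x : Coh.HH X (⨁ M) q) (j : Fin r) :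
    comps (k := k) M q x j = CurvLib.hMap (k := k) (biproduct.π M j) q x := rfl

theorem hMap_id' (N : X.Modules) (q : ℕ) (y : Coh.HH X N q) : CurvLib.hMap (k := k) (𝟙 N) q y = y := by
  rw [CurvLib.hMap_apply, CategoryTheory.Functor.map_id]
  exact Sheaf.H.map_id_apply y

theorem comps_injective {r : ℕ} (M : Fin r → X.Modules) (q : ℕ) : Function.Injective (comps (k := k) M q) := by
  refine (injective_iff_map_eq_zero _).2 fun x hx => ?_
  refine (PnCohLib.hMap_sum_components (k := k) M (𝟭 _) q x).trans (Finset.sum_eq_zero fun j _ => ?_)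
  exact (congrArg (CurvLib.hMap (k := k) (biproduct.ι M j) q)
    ((comps_apply M q x j).symm.trans (congrFun hx j))).trans (map_zero _)

theorem comps_surjective {r : ℕ} (M : Fin r → X.Modules) (q : ℕ) : Function.Surjective (comps (k := k) M q) := by
  classical
  intro y
  refine ⟨∑ j, CurvLib.hMap (k := k) (biproduct.ι M j) q (y j), funext fun i => ?_⟩
  rw [comps_apply, map_sum, Finset.sum_eq_single i]
  · rw [← CurvLib.hMap_comp, biproduct.ι_π_self, hMap_id']
  · intro j _ hj
    rw [← CurvLib.hMap_comp, biproduct.ι_π_ne _ hj, PnCohLib.hMap_zero]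
  · exact fun h => absurd (Finset.mem_univ i) h

theorem finrank_biproduct {r : ℕ} (M : Fin r → X.Modules) (q : ℕ)
    [∀ j, Module.Finite k (Coh.HH X (M j) q)] :
    Module.finrank k (Coh.HH X (⨁ M) q) = ∑ j, Module.finrank k (Coh.HH X (M j) q) :=
  (LinearEquiv.ofBijective (comps (k := k) M q) ⟨comps_injective M q, comps_surjective M q⟩).finrank_eq.trans
    (Module.finrank_pi_fintype k)

end Gen

/-- The binomial identity behind the Bott formula in degree zero. -/
theorem choose_identity (n p t : ℕ) (hp : p + 1 ≤ n) (ht : 1 ≤ t) :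
    (n + 1).choose (p + 1) * ((t : ℤ) - (p + 1 : ℕ) + n).toNat.choose n =
      (t + n - (p + 1)).choose t * (t - 1).choose (p + 1) + (t + n - p).choose t * (t - 1).choose p := by
  rcases lt_or_ge t (p + 1) with h | h
  · rw [Nat.choose_eq_zero_of_lt (show ((t : ℤ) - (p + 1 : ℕ) + n).toNat < n by omega),
      Nat.choose_eq_zero_of_lt (show t - 1 < p by omega), Nat.choose_eq_zero_of_lt (show t - 1 < p + 1 by omega)]
    simp
  obtain ⟨a, rfl⟩ := Nat.exists_eq_add_of_le h
  obtain ⟨b, rfl⟩ := Nat.exists_eq_add_of_le hp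
  rw [show (((p + 1 + a : ℕ) : ℤ) - (p + 1 : ℕ) + ((p + 1 + b : ℕ) : ℤ)).toNat = a + (p + 1 + b) by omega,
    show p + 1 + a + (p + 1 + b) - (p + 1) = b + (p + 1 + a) by omega,
    show p + 1 + a + (p + 1 + b) - p = (b + 1) + (p + 1 + a) by omega,
    show p + 1 + a - 1 = a + p by omega]
  have e1 : ∀ x y : ℕ, ((x + y).choose y : ℚ) = ((x + y).factorial : ℚ) / (x.factorial * y.factorial) := fun x y => by
    rw [Nat.cast_choose ℚ (Nat.le_add_left y x), Nat.add_sub_cancel, mul_comm (y.factorial : ℚ)]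
  suffices hq : (((p + 1 + b + 1).choose (p + 1) * (a + (p + 1 + b)).choose (p + 1 + b) : ℕ) : ℚ) =
      (((b + (p + 1 + a)).choose (p + 1 + a) * (a + p).choose (p + 1) +
        (b + 1 + (p + 1 + a)).choose (p + 1 + a) * (a + p).choose p : ℕ) : ℚ) by exact_mod_cast hq
  push_cast
  rw [show p + 1 + b + 1 = (b + 1) + (p + 1) by omega, e1, e1, e1, e1, e1]
  rcases a with _ | a
  · rw [show (0 + p).choose (p + 1) = 0 from Nat.choose_eq_zero_of_lt (by omega), Nat.cast_zero, mul_zero, zero_add,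
      show p + 1 + 0 = p + 1 by omega]
    simp only [Nat.factorial_zero, Nat.cast_one, one_mul, Nat.zero_add, Nat.add_zero]
    field_simp
    ring_nf
  · rw [show a + 1 + p = a + (p + 1) by omega, e1, show a + 1 + (p + 1 + b) = (p + 1 + a + b) + 1 by omega,
      show b + (p + 1 + (a + 1)) = (p + 1 + a + b) + 1 by omega,
      show b + 1 + (p + 1 + (a + 1)) = (p + 1 + a + b) + 1 + 1 by omega,
      show a + (p + 1) = p + 1 + a by omega, show b + 1 + (p + 1) = p + 1 + b + 1 by omega,
      show p + 1 + (a + 1) = p + 1 + a + 1 by omega]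
    simp only [Nat.factorial_succ]
    push_cast
    field_simp
    ring

/-- The binomial identity behind the Bott formula in top degree. -/
theorem choose_identity' (n p e : ℕ) (hp : p + 1 ≤ n) (he : 1 ≤ e) :
    (n + 1).choose (p + 1) * (e + p).choose n =
      (e + (p + 1)).choose e * (e - 1).choose (n - (p + 1)) + (e + p).choose e * (e - 1).choose (n - p) := by
  obtain ⟨m, rfl⟩ := Nat.exists_eq_add_of_le hp
  rw [show p + 1 + m - (p + 1) = m by omega, show p + 1 + m - p = m + 1 by omega]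
  rcases lt_or_ge (e - 1) m with h | h
  · rw [Nat.choose_eq_zero_of_lt h, Nat.choose_eq_zero_of_lt (show e - 1 < m + 1 by omega),
      Nat.choose_eq_zero_of_lt (show e + p < p + 1 + m by omega)]
    simp
  obtain ⟨a, ha⟩ := Nat.exists_eq_add_of_le h
  obtain rfl : e = m + a + 1 := by omega
  rw [show m + a + 1 - 1 = a + m by omega]
  have e1 : ∀ x y : ℕ, ((x + y).choose y : ℚ) = ((x + y).factorial : ℚ) / (x.factorial * y.factorial) := fun x y => by
    rw [Nat.cast_choose ℚ (Nat.le_add_left y x), Nat.add_sub_cancel, mul_comm (y.factorial : ℚ)]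
  suffices hq : (((p + 1 + m + 1).choose (p + 1) * (m + a + 1 + p).choose (p + 1 + m) : ℕ) : ℚ) =
      (((m + a + 1 + (p + 1)).choose (m + a + 1) * (a + m).choose m +
        (m + a + 1 + p).choose (m + a + 1) * (a + m).choose (m + 1) : ℕ) : ℚ) by exact_mod_cast hq
  push_cast
  rw [show p + 1 + m + 1 = (m + 1) + (p + 1) by omega, e1,
    show m + a + 1 + p = a + (p + 1 + m) by omega, e1,
    show m + a + 1 + (p + 1) = (p + 1) + (m + a + 1) by omega, e1,
    show a + (p + 1 + m) = p + (m + a + 1) by omega, e1, e1]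
  rcases a with _ | a
  · rw [show (0 + m).choose (m + 1) = 0 from Nat.choose_eq_zero_of_lt (by omega), Nat.cast_zero, mul_zero, add_zero,
      show 0 + m = m by omega, show m + 0 + 1 = m + 1 by omega, show (m + 1) + (p + 1) = (m + 1 + p) + 1 by omega,
      show p + (m + 1) = m + 1 + p by omega, show p + 1 + (m + 1) = (m + 1 + p) + 1 by omega,
      show p + 1 + m = m + 1 + p by omega]
    simp only [Nat.factorial_zero, Nat.cast_one, one_mul, Nat.zero_add, Nat.add_zero]
    field_simp
    ring_nf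
  · rw [show a + 1 + m = a + (m + 1) by omega, e1, show (m + 1) + (p + 1) = (p + 1 + m) + 1 by omega,
      show p + (m + (a + 1) + 1) = (p + 1 + m + a) + 1 by omega,
      show p + 1 + (m + (a + 1) + 1) = (p + 1 + m + a) + 1 + 1 by omega,
      show m + (a + 1) + 1 = (m + 1 + a) + 1 by omega, show a + (m + 1) = m + 1 + a by omega]
    simp only [Nat.factorial_succ]
    push_cast
    field_simp
    ring

variable (n : ℕ) (k : Type u) [Field k]

local notation "P" => CohB1.ProjSpace n k
local notation "O'" => Twist.twistProjSpace n k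

theorem quasiSep : QuasiSeparated (CohB1.ProjSpace.toSpec n k) := OmegaPnLib.quasiSeparated_toSpec k n

instance : QuasiSeparated (CohB1.ProjSpace.toSpec n k) := quasiSep n k

theorem isCoh_twist (a : ℤ) : Coh.IsCoh (O' a) := CurvLib.isCoh_of_locFree (twist_rank' n k a)

theorem isCoh_midT (p : ℕ) (t : ℤ) : Coh.IsCoh (midT n k p t) := by
  haveI : IsLocallyNoetherian P := LocallyOfFiniteType.isLocallyNoetherian (P ↘ Spec (CommRingCat.of k))
  obtain ⟨e⟩ := PnCohLib.exists_sigma_iso (n := n) (R := k) (O' (t - (p + 1 : ℕ))) ((n + 1).choose (p + 1))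
  exact CurvLib.isCoh_of_locFree (EulerPnLib.rank_of_iso (HopfIneqLib.locFree_tensor (twist_rank' n k _)
    (EulerPnLib.rank_freeMod (X := P) _)) (e.symm ≪≫ (biproduct.isoCoproduct _).symm))

theorem finrank_midT (p : ℕ) (t : ℤ) (q : ℕ) :
    Module.finrank k (Coh.HH P (midT n k p t) q) =
      (n + 1).choose (p + 1) * Module.finrank k (Coh.HH P (O' (t - (p + 1 : ℕ))) q) := by
  haveI : ∀ j : Fin ((n + 1).choose (p + 1)), Module.Finite k
      (Coh.HH P ((fun _ : Fin ((n + 1).choose (p + 1)) => O' (t - (p + 1 : ℕ))) j) q) :=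
    fun _ => CurvLib.finite_HH (isCoh_twist n k _) q
  rw [finrank_biproduct, Finset.sum_const, Finset.card_univ, Fintype.card_fin, smul_eq_mul]

/-- The dimension of `H^q(Ω^p(t))`. -/
abbrev hd (L : (CohB1.ProjSpace n k).Modules) (t : ℤ) (q : ℕ) : ℕ :=
  Module.finrank k (Coh.HH P (CohB1.tensorMod L (O' t)) q)

theorem finrank_congr {M N : (CohB1.ProjSpace n k).Modules} (e : M ≅ N) (q : ℕ) :
    Module.finrank k (Coh.HH P M q) = Module.finrank k (Coh.HH P N q) := (CurvLib.hIso (k := k) e q).finrank_eq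

theorem hd_zero_iso {L : (CohB1.ProjSpace n k).Modules} (hL : IsOm n k 0 L) (t : ℤ) (q : ℕ) :
    hd n k L t q = Module.finrank k (Coh.HH P (O' t) q) := by
  obtain ⟨e⟩ := isOm_zero_iso n k hL
  obtain ⟨e'⟩ := PicPnLib.twist_add n k 0 t
  exact finrank_congr n k (HilbPolyLib.congrLeft e _ ≪≫ e' ≪≫ eqToIso (congrArg O' (zero_add t))) q

/-- **The Bott formula in degree zero.** -/
theorem bott_zero (hn : 1 ≤ n) (t : ℕ) (ht : 1 ≤ t) : ∀ (p : ℕ), p ≤ n → ∀ L : (CohB1.ProjSpace n k).Modules,
    IsOm n k p L → hd n k L t 0 = (t + n - p).choose t * (t - 1).choose p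
  | 0, _, L, hL => by
    rw [hd_zero_iso n k hL, PnCohLib.finrank_zero_twist (N := n) k hn, Nat.choose_zero_right, mul_one,
      show ((t : ℤ) + n).toNat = n + t by omega, Nat.sub_zero, add_comm t n, Nat.choose_symm_add]
  | p + 1, hp, L, hL => by
    obtain ⟨C, -, hC⟩ := exists_isOm n k p
    obtain ⟨T, hT, ⟨i₁⟩, ⟨i₂⟩, ⟨i₃⟩⟩ := exists_seq_twist n k p t hL hC
    haveI : IsProper (P ↘ Spec (CommRingCat.of k)) := inferInstance
    have h := finrank_middle_zero (k := k) hT
      (QCohLib.isCoh_of_iso i₂.symm (isCoh_midT n k p t))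
      (SerreVanLib.subsingleton_HH_of_iso i₁ 1
        (sub_desc n k t (n + 1) (p + 1) (by omega) 1 L hL (Or.inl ⟨by omega, by omega⟩)))
    rw [finrank_congr n k i₁, finrank_congr n k i₂, finrank_congr n k i₃, finrank_midT,
      PnCohLib.finrank_zero_twist (N := n) k hn] at h
    have h3 : Module.finrank k (Coh.HH P (CohB1.tensorMod C (O' (t : ℤ))) 0) = _ := bott_zero hn t ht p (by omega) C hC
    rw [h3] at h
    have h' := choose_identity n p t (by omega) ht
    exact Nat.add_right_cancel (h.symm.trans h')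

/-- **The Bott formula in top degree.** -/
theorem bott_top (hn : 1 ≤ n) (e : ℕ) (he : 1 ≤ e) : ∀ (p : ℕ), p ≤ n → ∀ L : (CohB1.ProjSpace n k).Modules,
    IsOm n k p L → hd n k L (-(e : ℤ)) n = (e + p).choose e * (e - 1).choose (n - p)
  | 0, _, L, hL => by
    rw [hd_zero_iso n k hL, PnCohLib.finrank_top_twist (N := n) k hn, Nat.add_zero, Nat.choose_self, one_mul, Nat.sub_zero,
      show (-(-(e : ℤ)) - 1).toNat = e - 1 by omega]
  | p + 1, hp, L, hL => by
    obtain ⟨C, -, hC⟩ := exists_isOm n k p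
    obtain ⟨T, hT, ⟨i₁⟩, ⟨i₂⟩, ⟨i₃⟩⟩ := exists_seq_twist n k p (-(e : ℤ)) hL hC
    obtain ⟨m, hm⟩ : ∃ m, n = m + 1 := ⟨n - 1, by omega⟩
    have h := finrank_middle_top (k := k) hT (QCohLib.isCoh_of_iso i₂.symm (isCoh_midT n k p _)) m
      (SerreVanLib.subsingleton_HH_of_iso i₃ m (sub_asc n k hn _ p m C hC (by omega)))
      (SerreVanLib.subsingleton_HH_of_iso i₁ (m + 1 + 1)
        (sub_desc n k _ (n + 1) (p + 1) (by omega) (m + 1 + 1) L hL (Or.inr (by omega))))
    rw [← hm, finrank_congr n k i₁, finrank_congr n k i₂, finrank_congr n k i₃, finrank_midT,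
      PnCohLib.finrank_top_twist (N := n) k hn,
      show (-(-(e : ℤ) - (p + 1 : ℕ)) - 1).toNat = e + p by omega] at h
    have h3 : Module.finrank k (Coh.HH P (CohB1.tensorMod C (O' (-(e : ℤ)))) n) = _ := bott_top hn e he p (by omega) C hC
    rw [h3] at h
    have h' := choose_identity' n p e (by omega) he
    exact Nat.add_right_cancel (h.symm.trans h')

theorem hd_big {p : ℕ} (hp : n < p) {L : (CohB1.ProjSpace n k).Modules} (hL : IsOm n k p L) (t : ℤ) (q : ℕ) :
    hd n k L t q = 0 := by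
  haveI := sub_isOm_big n k t p q hp hL
  exact Module.finrank_zero_of_subsingleton

/-- No sections in twists at most the degree. -/
theorem sub_h0 (hn : 1 ≤ n) (p : ℕ) (t : ℤ) (ht : t ≠ 0) (h : t ≤ p) {L : (CohB1.ProjSpace n k).Modules}
    (hL : IsOm n k p L) : Subsingleton (Coh.HH P (CohB1.tensorMod L (O' t)) 0) := by
  by_cases hp : n < p
  · exact sub_isOm_big n k t p 0 hp hL
  rcases lt_or_gt_of_ne ht with ht' | ht'
  · exact sub_asc n k hn t p 0 L hL (Or.inr (Or.inl ⟨ht', by omega⟩))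
  obtain ⟨s, rfl⟩ : ∃ s : ℕ, t = s := ⟨t.toNat, by omega⟩
  obtain ⟨p', rfl⟩ : ∃ p', p = p' + 1 := ⟨p - 1, by omega⟩
  haveI : IsProper (P ↘ Spec (CommRingCat.of k)) := inferInstance
  have h0 := bott_zero n k hn s (by omega) (p' + 1) (by omega) L hL
  rw [Nat.choose_eq_zero_of_lt (show s - 1 < p' + 1 by omega), mul_zero] at h0
  obtain ⟨C, -, hC⟩ := exists_isOm n k p'
  obtain ⟨T, hT, ⟨i₁⟩, ⟨i₂⟩, ⟨i₃⟩⟩ := exists_seq_twist n k p' (s : ℤ) hL hC
  haveI := CurvLib.finite_HH (k := k) (QCohLib.isCoh_of_iso i₂.symm (isCoh_midT n k p' s)) 0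
  haveI : Module.Finite k (Coh.HH P T.X₁ 0) :=
    Module.Finite.of_injective (CurvLib.hMap (k := k) T.f 0) (CurvLib.injective₀ hT)
  haveI : Module.Finite k (Coh.HH P (CohB1.tensorMod L (O' (s : ℤ))) 0) :=
    Module.Finite.equiv (CurvLib.hIso (k := k) i₁ 0)
  exact Module.finrank_zero_iff.1 h0

theorem twisted_vanish (hn : 1 ≤ n) (j : ℕ) (t : ℤ) (ht : t ≠ 0) (i : ℕ) (h0 : ¬ (i = 0 ∧ (j : ℤ) < t))
    (htop : ¬ (i = n ∧ t < (j : ℤ) - n)) {L : (CohB1.ProjSpace n k).Modules} (hL : IsOm n k j L) :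
    Subsingleton (Coh.HH P (CohB1.tensorMod L (O' t)) i) := by
  by_cases hni : n < i
  · exact sub_desc n k t (n + 1) j (by omega) i L hL (Or.inr hni)
  rcases lt_or_gt_of_ne ht with ht' | ht'
  · exact sub_asc n k hn t j i L hL (by omega)
  rcases Nat.eq_zero_or_pos i with rfl | hi
  · exact sub_h0 n k hn j t ht (by omega) hL
  exact sub_desc n k t (n + 1) j (by omega) i L hL (Or.inl ⟨ht', hi⟩)

end HodgePnLib
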