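import Groth.Agent.HodgePnLib.Ext
import Groth.Agent.EulerPnLib.Simple
import Groth.Agent.ExtPowLib.Sheaf
import Groth.Agent.LMLib.Duality
import Groth.Agent.EulerPnLib.NullExist

/-!
# The Koszul sequences of the differentials of projective space

`0 → Ω^(p+1) → ⊕ O(-p-1) → Ω^p → 0`.
-/

set_option autoImplicit false
set_option linter.style.haveILetI false
set_option linter.unusedSectionVars false
set_option maxHeartbeats 2000000
set_option backward.isDefEq.respectTransparency false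
set_option backward.isDefEq.respectTransparency.types false
universe u

open CategoryTheory CategoryTheory.Limits AlgebraicGeometry TopologicalSpace Opposite
open WedgeLib (ExtData Sec ExtSec)

noncomputable section

namespace HodgePnLib

variable {X : Scheme.{u}}

theorem isZero_of_sections {M : X.Modules} (h : ∀ (W : X.Opens) (s : Γ(M, W)), s = 0) : IsZero M :=
  (IsZero.iff_id_eq_zero _).2 (Scheme.Modules.hom_ext (𝟙 M) 0 fun W => by
    ext s
    exact (h W _).trans (h W _).symm)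

/-- Beyond the number of generators an exterior power vanishes. -/
theorem subsingleton_extSec {R M : Type*} [CommRing R] [AddCommGroup M] [Module R M] {a j : ℕ}
    (b : Module.Basis (Fin a) R M) (h : a < j) : Subsingleton ↥(⋀[R]^j M) := by
  let B := b.exteriorPower j
  haveI : IsEmpty (Set.powersetCard (Fin a) j) := ⟨fun s => by
    have h1 := s.2
    have h2 := Finset.card_le_univ (s : Finset (Fin a))
    simp only [Set.powersetCard.mem_iff] at h1
    rw [Fintype.card_fin] at h2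
    omega⟩
  exact B.repr.toEquiv.subsingleton

/-- A high exterior power of a bundle of small rank is zero. -/
theorem isZero_ext_of_lt {r j : ℕ} {E L : X.Modules} (hE : FlatMod.IsFinLocFreeOfRank r E) (D : ExtData j E L)
    (h : r < j) : IsZero L := by
  refine isZero_of_sections fun W s => WedgeLib.ext_on
    (fun U : X.affineOpens => Nonempty (Module.Basis (Fin r) Γ(X, U.1) Γ(E, U.1))) (fun W' x hx => ?_) s 0
    fun V hV hVW => ?_
  · obtain ⟨U, hxU, ⟨φ⟩⟩ := hE x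
    obtain ⟨_, ⟨A, hA, rfl⟩, hxA, hAW⟩ := X.isBasis_affineOpens.exists_subset_of_mem_open
      (show x ∈ ((W' ⊓ U : X.Opens) : Set X) from ⟨hx, hxU⟩) (W' ⊓ U).isOpen
    exact ⟨⟨A, hA⟩, FittLib.nonempty_basis_of_iso E φ (fun y hy => (hAW hy).2 : A ≤ U), hxA, fun y hy => (hAW hy).1⟩
  · obtain ⟨b⟩ := hV
    haveI := subsingleton_extSec b h
    exact (D.φ V).injective (Subsingleton.elim _ _)

theorem exists_extData {r : ℕ} {E L : X.Modules} (h : ExtPow.IsExtPow r E L) : Nonempty (ExtData r E L) :=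
  let ⟨φ, hφ⟩ := h
  ⟨⟨φ, hφ⟩⟩

theorem isExtPow_zero (E : X.Modules) : ExtPow.IsExtPow 0 E (Coh.structureModule X) := by
  let i : ∀ U : X.affineOpens, ((Coh.structureModule X).val.obj (op U.1)) ≃ₗ[Γ(X, U.1)] Γ(X, U.1) := fun U =>
    { toFun := fun r => r
      map_add' := fun _ _ => rfl
      map_smul' := fun _ _ => rfl
      invFun := fun r => r
      left_inv := fun _ => rfl
      right_inv := fun _ => rfl }
  refine ⟨fun U => (i U).trans (exteriorPower.zeroEquiv Γ(X, U.1) (E.val.obj (op U.1))).symm, fun U V h e => ?_⟩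
  rw [LinearEquiv.trans_symm, LinearEquiv.trans_symm, LinearEquiv.trans_apply, LinearEquiv.trans_apply,
    LinearEquiv.symm_symm, LinearEquiv.symm_symm, exteriorPower.zeroEquiv_ιMulti, exteriorPower.zeroEquiv_ιMulti]
  exact map_one (X.presheaf.map (homOfLE h).op).hom

section Filtration

variable {S : ShortComplex X.Modules} (hS : S.ShortExact) (h₁ : FlatMod.IsFinLocFree S.X₁)
  (e₃ : S.X₃ ≅ Coh.structureModule X) (h₃ : FlatMod.IsFinLocFreeOfRank 1 S.X₃)

include hS h₁ e₃ h₃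

open WedgeLib in
/-- The exterior powers of an extension of `O`. -/
theorem exists_seq (h₂ : FlatMod.IsFinLocFree S.X₂) (p : ℕ) {A B C : X.Modules} (hA : ExtPow.IsExtPow (p + 1) S.X₁ A)
    (hB : ExtPow.IsExtPow (p + 1) S.X₂ B) (hC : ExtPow.IsExtPow p S.X₁ C) :
    ∃ T : ShortComplex X.Modules, T.ShortExact ∧ Nonempty (T.X₁ ≅ A) ∧ Nonempty (T.X₂ ≅ B) ∧ Nonempty (T.X₃ ≅ C) := by
  have hlf₃ : FlatMod.IsFinLocFree S.X₃ := CurveVBLib.isFinLocFree_of_rank h₃
  let N := p + 1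
  choose L' hq' hL' using fun i : ℕ => ExtPowLib.exists_isExtPow_vb h₁ i
  choose L hq hL using fun i : ℕ => ExtPowLib.exists_isExtPow_vb h₂ i
  choose L'' hq'' hL'' using fun i : ℕ => ExtPowLib.exists_isExtPow_vb hlf₃ i
  let D' := fun i => (exists_extData (hL' i)).some
  let D := fun i => (exists_extData (hL i)).some
  let D'' := fun i => (exists_extData (hL'' i)).some
  have step0 : ∀ i, i + 2 ≤ N → ∀ σ : WedgeLib.Step (L' := L') (L'' := L'') N D i,
      ∃ τ : WedgeLib.Step (L' := L') (L'' := L'') N D (i + 1), Nonempty (τ.F ≅ σ.F) := by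
    intro i hi σ
    obtain ⟨τ, a, g, w, hse, -⟩ := WedgeLib.exists_next N D' D D'' hS h₁ hlf₃ hq' hq'' (by omega : i ≤ N) σ
    refine ⟨τ, ?_⟩
    haveI := hse.mono_f
    haveI : Epi (ShortComplex.mk a g w).f := hse.exact.epi_f ((CurvLib.tensorLeft' (L' i)).map_isZero
      (isZero_ext_of_lt h₃ (D'' (N - i)) (by omega)) |>.eq_of_tgt _ _)
    haveI : IsIso (ShortComplex.mk a g w).f := isIso_of_mono_of_epi _
    exact ⟨asIso (ShortComplex.mk a g w).f⟩
  have iter : ∀ i, i ≤ p → ∃ σ : WedgeLib.Step (L' := L') (L'' := L'') N D i, Nonempty (σ.F ≅ L N) := by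
    intro i
    induction i with
    | zero =>
      intro _
      obtain ⟨σ, hσ⟩ := WedgeLib.exists_step_zero (L' := L') (L'' := L'') N D hS h₁
      exact ⟨σ, ⟨eqToIso hσ⟩⟩
    | succ i ih =>
      intro hi
      obtain ⟨σ, ⟨e⟩⟩ := ih (by omega)
      obtain ⟨τ, ⟨e'⟩⟩ := step0 i (by omega) σ
      exact ⟨τ, ⟨e' ≪≫ e⟩⟩
  obtain ⟨σ, ⟨eσ⟩⟩ := iter p le_rfl
  obtain ⟨τ, a, g, w, hse, -⟩ := WedgeLib.exists_next N D' D D'' hS h₁ hlf₃ hq' hq'' (by omega : p ≤ N) σ
  obtain ⟨ρ, a', g', w', hse', -⟩ := WedgeLib.exists_next N D' D D'' hS h₁ hlf₃ hq' hq'' (le_refl N) τ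
  have hρ : IsZero ρ.F := by
    refine isZero_of_sections fun W s => WedgeLib.ext_on (WedgeLib.Good S L' L'' N)
      (WedgeLib.exists_good N hlf₃ hq' hq'') s 0 fun V hV hVW => ?_
    haveI := ρ.mono
    refine (?_ : _ = (0 : Γ(ρ.F, V.1))).trans (map_zero (ρ.F.presheaf.map (homOfLE hVW).op).hom).symm
    refine QCohLib.app_injective_of_mono ρ.ι V.1 (Eq.trans ?_ (map_zero (ρ.ι.app V.1).hom).symm)
    have h := (ρ.range_eq V hV _).1 ⟨AmpleLib.res ρ.F hVW s, rfl⟩
    rw [WedgeLib.fil, dif_neg (by omega), Submodule.mem_bot] at h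
    exact ((D N).φ V).map_eq_zero_iff.1 h
  haveI := hse'.epi_g
  haveI : Mono (ShortComplex.mk a' g' w').g := hse'.exact.mono_g (hρ.eq_of_src _ _)
  haveI : IsIso (ShortComplex.mk a' g' w').g := isIso_of_mono_of_epi _
  have eone : ∀ (i : ℕ) (hi : i = 1), Nonempty (L'' i ≅ Coh.structureModule X) := by
    rintro i rfl
    obtain ⟨e⟩ := ExtPowLib.nonempty_iso (hL'' 1) (LMLib.isExtPow_one S.X₃)
    exact ⟨e ≪≫ e₃⟩
  have ezero : ∀ (i : ℕ) (hi : i = 0), Nonempty (L'' i ≅ Coh.structureModule X) := by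
    rintro i rfl
    exact ExtPowLib.nonempty_iso (hL'' 0) (isExtPow_zero S.X₃)
  obtain ⟨u1⟩ := eone (N - p) (by omega)
  obtain ⟨u0⟩ := ezero (N - N) (by omega)
  obtain ⟨eA⟩ := ExtPowLib.nonempty_iso (hL' N) hA
  obtain ⟨eB⟩ := ExtPowLib.nonempty_iso (hL N) hB
  obtain ⟨eC⟩ := ExtPowLib.nonempty_iso (hL' p) hC
  exact ⟨ShortComplex.mk a g w, hse,
    ⟨asIso (ShortComplex.mk a' g' w').g ≪≫ HilbPolyLib.congrRight (L' N) u0 ≪≫ PicPnLib.unitRight _ ≪≫ eA⟩,
    ⟨eσ ≪≫ eB⟩, ⟨HilbPolyLib.congrRight (L' p) u1 ≪≫ PicPnLib.unitRight _ ≪≫ eC⟩⟩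

end Filtration

variable (n : ℕ) (R : Type u) [CommRing R] [Nontrivial R] [QuasiSeparated (CohB1.ProjSpace.toSpec n R)]

local notation "P" => CohB1.ProjSpace n R
local notation "O'" => Twist.twistProjSpace n R

/-- The exterior powers of the differentials. -/
abbrev IsOm (p : ℕ) (L : (CohB1.ProjSpace n R).Modules) : Prop :=
  ExtPow.IsExtPow p (Omega.sheaf (CohB1.ProjSpace.toSpec n R)) L

theorem vb_omega : FlatMod.IsFinLocFree (Omega.sheaf (CohB1.ProjSpace.toSpec n R)) :=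
  haveI := OmegaPnLib.smoothRel_projSpace R n
  CurveVBLib.isFinLocFree_of_rank (CohCmpLib.rank_omega (CohB1.ProjSpace.toSpec n R) n)

theorem twist_rank' (a : ℤ) : FlatMod.IsFinLocFreeOfRank 1 (O' a) :=
  CurvLib.locFree_of_isInvertible (PicPnLib.twist_inv n R a)

theorem exists_omega_seq (p : ℕ) {A C : (CohB1.ProjSpace n R).Modules} (hA : IsOm n R (p + 1) A)
    (hC : IsOm n R p C) :
    ∃ T : ShortComplex (CohB1.ProjSpace n R).Modules, T.ShortExact ∧ Nonempty (T.X₁ ≅ A) ∧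
      Nonempty (T.X₂ ≅ ⨁ fun _ : Fin ((n + 1).choose (p + 1)) => O' (-((p + 1 : ℕ) : ℤ))) ∧
      Nonempty (T.X₃ ≅ C) := by
  have hS : (EulerPnLib.eulerSeq n R).ShortExact := EulerPnLib.shortExact_eulerSeq n R
  obtain ⟨e0⟩ := PicPnLib.twist_zero n R
  have h3 := twist_rank' n R 0
  have h2 : FlatMod.IsFinLocFree (EulerPnLib.mid n R) := by
    obtain ⟨e⟩ := PnCohLib.exists_sigma_iso (n := n) (R := R) (O' (-1)) (n + 1)
    exact CurveVBLib.isFinLocFree_of_rank (EulerPnLib.rank_of_iso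
      (HopfIneqLib.locFree_tensor (twist_rank' n R (-1)) (EulerPnLib.rank_freeMod (X := P) (n + 1)))
      (e.symm ≪≫ (biproduct.isoCoproduct _).symm))
  obtain ⟨B, -, hB⟩ := ExtPowLib.exists_isExtPow_vb h2 (p + 1)
  obtain ⟨T, hT, i₁, ⟨i₂⟩, i₃⟩ := exists_seq hS (vb_omega n R) e0 h3 h2 p hA hB hC
  obtain ⟨D⟩ := exists_extData hB
  obtain ⟨Ψ⟩ := exists_iso_mid_ext n R (p + 1) D
  have hcard : Fintype.card (Idx n (p + 1)) = (n + 1).choose (p + 1) := by
    rw [← Nat.card_eq_fintype_card, Set.powersetCard.card, Nat.card_eq_fintype_card, Fintype.card_fin]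
  let e := Fintype.equivFinOfCardEq hcard
  exact ⟨T, hT, i₁, ⟨i₂ ≪≫ Ψ.symm ≪≫
    biproduct.whiskerEquiv (f := fun _ : Idx n (p + 1) => O' (-((p + 1 : ℕ) : ℤ)))
      (g := fun _ : Fin ((n + 1).choose (p + 1)) => O' (-((p + 1 : ℕ) : ℤ))) e fun _ => Iso.refl _⟩, i₃⟩

theorem exists_isOm (p : ℕ) : ∃ L, FlatMod.IsFinLocFree L ∧ IsOm n R p L :=
  ExtPowLib.exists_isExtPow_vb (vb_omega n R) p

theorem isOm_zero_iso {L : (CohB1.ProjSpace n R).Modules} (hL : IsOm n R 0 L) : Nonempty (L ≅ O' 0) := by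
  obtain ⟨e0⟩ := PicPnLib.twist_zero n R
  obtain ⟨e⟩ := ExtPowLib.nonempty_iso hL (isExtPow_zero _)
  exact ⟨e ≪≫ e0.symm⟩

theorem isZero_isOm {p : ℕ} (hp : n < p) {L : (CohB1.ProjSpace n R).Modules} (hL : IsOm n R p L) : IsZero L := by
  obtain ⟨D⟩ := exists_extData hL
  haveI := OmegaPnLib.smoothRel_projSpace R n
  exact isZero_ext_of_lt (CohCmpLib.rank_omega (CohB1.ProjSpace.toSpec n R) n) D hp

end HodgePnLib
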