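import Groth.Agent.EulerPnLib.Seq
import Groth.Agent.EulerPnLib.Homs
import Groth.Agent.WedgeLib.FiltSheaf
import Mathlib.LinearAlgebra.ExteriorPower.Basis

/-!
# The exterior powers of `O(-1)^(n+1)`
-/

set_option autoImplicit false
set_option linter.style.haveILetI false
set_option linter.unusedSectionVars false
set_option maxHeartbeats 1000000
set_option backward.isDefEq.respectTransparency false
set_option backward.isDefEq.respectTransparency.types false
universe u

open CategoryTheory CategoryTheory.Limits AlgebraicGeometry TopologicalSpace Opposite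
open GradedCechLib (Poly)
open EulerPnLib (mid tuple π_tuple biprod_ext ev val_smul')

noncomputable section

namespace HodgePnLib

variable (n : ℕ) (R : Type u) [CommRing R]

local notation "P" => CohB1.ProjSpace n R
local notation "O'" => Twist.twistProjSpace n R
local notation "ℳ" => CohB1.polyGrading n R

/-- The generator `1/X_a^p` of `O(-p)` on a chart. -/
def genP (p : ℕ) (a : Fin (n + 1)) : TwistLib.Unit' ℳ (-(p : ℤ)) (QCohLib.stdOpen n R a) :=
  ⟨0, p, 1, MvPolynomial.X a ^ p, SetLike.GradedOne.one_mem,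
    by simpa using SetLike.pow_mem_graded p (GradedCechLib.X_mem n R a), by push_cast; ring,
    fun x h => x.1.isPrime.ne_top ((Ideal.eq_top_iff_one _).mpr h),
    fun x h => x.2 (x.1.isPrime.mem_of_pow_mem p h)⟩

/-- The generator `1/X_a` of `O(-1)` on a chart. -/
def gen1 (a : Fin (n + 1)) : TwistLib.Unit' ℳ (-1) (QCohLib.stdOpen n R a) :=
  ⟨0, 1, 1, MvPolynomial.X a, SetLike.GradedOne.one_mem, GradedCechLib.X_mem n R a, by norm_num,
    fun x h => x.1.isPrime.ne_top ((Ideal.eq_top_iff_one _).mpr h), fun x => x.2⟩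

/-- The generator of `O(-p)`, restricted. -/
def gP (p : ℕ) {a : Fin (n + 1)} {V : (CohB1.ProjSpace n R).Opens} (h : V ≤ QCohLib.stdOpen n R a) :
    Γ(O' (-(p : ℤ)), V) := AmpleLib.res _ h (genP n R p a).sec

/-- The generator of `O(-1)`, restricted. -/
def g1 {a : Fin (n + 1)} {V : (CohB1.ProjSpace n R).Opens} (h : V ≤ QCohLib.stdOpen n R a) :
    Γ(O' (-1), V) := AmpleLib.res _ h (gen1 n R a).sec

theorem val_gP (p : ℕ) {a : Fin (n + 1)} {V : (CohB1.ProjSpace n R).Opens} (h : V ≤ QCohLib.stdOpen n R a) (x : V) :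
    TwistLib.val (gP n R p h) x * algebraMap (Poly n R) (Twist.Loc ℳ x.1) (MvPolynomial.X a) ^ p = 1 := by
  show Localization.mk (1 : Poly n R) _ * _ = _
  rw [← map_pow, ← Localization.mk_one_eq_algebraMap, Localization.mk_mul, one_mul, mul_one]
  exact Localization.mk_self (⟨MvPolynomial.X a ^ p, _⟩ : x.1.asHomogeneousIdeal.toIdeal.primeCompl)

theorem val_g1 {a : Fin (n + 1)} {V : (CohB1.ProjSpace n R).Opens} (h : V ≤ QCohLib.stdOpen n R a) (x : V) :
    TwistLib.val (g1 n R h) x * algebraMap (Poly n R) (Twist.Loc ℳ x.1) (MvPolynomial.X a) = 1 := by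
  show Localization.mk (1 : Poly n R) _ * _ = _
  rw [← Localization.mk_one_eq_algebraMap, Localization.mk_mul, one_mul, mul_one]
  exact Localization.mk_self (⟨MvPolynomial.X a, h x.2⟩ : x.1.asHomogeneousIdeal.toIdeal.primeCompl)

/-- A change of chart multiplies both generators by powers of one unit. -/
theorem exists_change (p : ℕ) {a b : Fin (n + 1)} {V : (CohB1.ProjSpace n R).Opens}
    (ha : V ≤ QCohLib.stdOpen n R a) (hb : V ≤ QCohLib.stdOpen n R b) :
    ∃ w : Γ(CohB1.ProjSpace n R, V), g1 n R hb = w • g1 n R ha ∧ gP n R p hb = w ^ p • gP n R p ha := by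
  obtain ⟨w, hw⟩ := ((gen1 n R a).genOn V ha).2 (g1 n R hb)
  refine ⟨w, hw.symm, TwistLib.sec_ext fun x => ?_⟩
  have hu : IsUnit (algebraMap (Poly n R) (Twist.Loc ℳ x.1) (MvPolynomial.X b) ^ p) :=
    (IsLocalization.map_units (Twist.Loc ℳ x.1)
      (⟨MvPolynomial.X b, hb x.2⟩ : x.1.asHomogeneousIdeal.toIdeal.primeCompl)).pow p
  refine hu.mul_right_cancel ?_
  rw [val_gP, val_smul', map_pow, mul_assoc]
  have h1 := val_g1 n R hb x
  rw [← hw, val_smul'] at h1
  have h2 := val_g1 n R ha x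
  have h3 := val_gP n R p ha x
  calc (1 : Twist.Loc ℳ x.1)
      = (ev ℳ x w * TwistLib.val (g1 n R ha) x * algebraMap _ _ (MvPolynomial.X b)) ^ p := by
        erw [h1, one_pow]
    _ = _ := by
        rw [mul_pow, mul_pow]
        have : TwistLib.val (g1 n R ha) x ^ p = TwistLib.val (gP n R p ha) x := by
          have hu' : IsUnit (algebraMap (Poly n R) (Twist.Loc ℳ x.1) (MvPolynomial.X a) ^ p) :=
            (IsLocalization.map_units (Twist.Loc ℳ x.1)
              (⟨MvPolynomial.X a, ha x.2⟩ : x.1.asHomogeneousIdeal.toIdeal.primeCompl)).pow p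
          refine hu'.mul_right_cancel ?_
          rw [h3, ← mul_pow, h2, one_pow]
        rw [this]
        ring

variable (p : ℕ)

/-- The coefficient with respect to the generator. -/
def cf {a : Fin (n + 1)} {V : (CohB1.ProjSpace n R).Opens} (h : V ≤ QCohLib.stdOpen n R a) :
    Γ(CohB1.ProjSpace n R, V) ≃ₗ[Γ(CohB1.ProjSpace n R, V)] Γ(O' (-(p : ℤ)), V) :=
  LinearEquiv.ofBijective (LinearMap.toSpanSingleton _ _ (gP n R p h)) ((genP n R p a).genOn V h)

theorem cf_apply {a : Fin (n + 1)} {V : (CohB1.ProjSpace n R).Opens} (h : V ≤ QCohLib.stdOpen n R a)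
    (r : Γ(CohB1.ProjSpace n R, V)) : cf n R p h r = r • gP n R p h := rfl

/-- A coordinate vector of `O(-1)^(n+1)` on a chart. -/
def eV {a : Fin (n + 1)} {V : (CohB1.ProjSpace n R).Opens} (h : V ≤ QCohLib.stdOpen n R a) (j : Fin (n + 1)) :
    Γ(mid n R, V) :=
  (biproduct.ι (fun _ : Fin (n + 1) => O' (-1)) j).app V (g1 n R h)

theorem eV_res {a : Fin (n + 1)} {U V : (CohB1.ProjSpace n R).Opens} (hU : U ≤ QCohLib.stdOpen n R a) (h : V ≤ U)
    (j : Fin (n + 1)) : (mid n R).presheaf.map (homOfLE h).op (eV n R hU j) = eV n R (h.trans hU) j := by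
  refine (QCohLib.app_map (biproduct.ι (fun _ : Fin (n + 1) => O' (-1)) j) (homOfLE h) _).symm.trans
    (congrArg ((biproduct.ι (fun _ : Fin (n + 1) => O' (-1)) j).app V) ?_)
  exact AmpleLib.res_res _ _ _ _

theorem exists_basis_eV {a : Fin (n + 1)} {V : (CohB1.ProjSpace n R).Opens} (h : V ≤ QCohLib.stdOpen n R a) :
    ∃ b : Module.Basis (Fin (n + 1)) Γ(CohB1.ProjSpace n R, V) Γ(mid n R, V), ⇑b = eV n R h := by
  classical
  let e : Γ(CohB1.ProjSpace n R, V) ≃ₗ[Γ(CohB1.ProjSpace n R, V)] Γ(O' (-1), V) :=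
    LinearEquiv.ofBijective (LinearMap.toSpanSingleton _ _ (g1 n R h)) ((gen1 n R a).genOn V h)
  have hι : ∀ (c : Γ(CohB1.ProjSpace n R, V)) (j : Fin (n + 1)),
      c • eV n R h j = (biproduct.ι (fun _ : Fin (n + 1) => O' (-1)) j).app V (c • g1 n R h) := fun c j =>
    (QCohLib.app_smul _ V c _).symm
  have hsum : ∀ c : Fin (n + 1) → Γ(CohB1.ProjSpace n R, V),
      ∑ j, c j • eV n R h j = tuple (fun _ : Fin (n + 1) => O' (-1)) (fun j => c j • g1 n R h) := fun c =>
    Finset.sum_congr rfl fun j _ => hι (c j) j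
  refine ⟨Module.Basis.mk (v := eV n R h) (Fintype.linearIndependent_iff.mpr fun c hc j => ?_) fun v _ => ?_,
    Module.Basis.coe_mk _ _⟩
  · have h1 := congrArg (fun z => (biproduct.π (fun _ : Fin (n + 1) => O' (-1)) j).app V z) ((hsum c).symm.trans hc)
    rw [π_tuple, map_zero] at h1
    exact e.injective (h1.trans (map_zero e).symm)
  · have h1 : v = ∑ j, e.symm ((biproduct.π (fun _ : Fin (n + 1) => O' (-1)) j).app V v) • eV n R h j := by
      rw [hsum]
      refine biprod_ext _ fun j => ?_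
      rw [π_tuple]
      exact (e.apply_symm_apply _).symm
    rw [h1]
    exact Submodule.sum_mem _ fun j _ => Submodule.smul_mem _ _ (Submodule.subset_span ⟨j, rfl⟩)

/-- The index set of the basis of the exterior power. -/
abbrev Idx : Type := Set.powersetCard (Fin (n + 1)) p

/-- **The exterior powers of `O(-1)^(n+1)` are sums of twists.** -/
theorem exists_iso_mid_ext {L : (CohB1.ProjSpace n R).Modules} (D : WedgeLib.ExtData p (mid n R) L) :
    Nonempty ((⨁ fun _ : Idx n p => O' (-(p : ℤ))) ≅ L) := by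
  classical
  let Pc : (CohB1.ProjSpace n R).affineOpens → Prop := fun U => ∃ a, U.1 ≤ QCohLib.stdOpen n R a
  have hPc : ∀ (W : (CohB1.ProjSpace n R).Opens) (x : P), x ∈ W →
      ∃ A : (CohB1.ProjSpace n R).affineOpens, Pc A ∧ x ∈ A.1 ∧ A.1 ≤ W := by
    intro W x hx
    obtain ⟨a, ha⟩ := Opens.mem_iSup.1 (show x ∈ ⨆ a, QCohLib.stdOpen n R a by rw [QCohLib.iSup_stdOpen]; trivial)
    obtain ⟨_, ⟨A, hA, rfl⟩, hxA, hAW⟩ := (CohB1.ProjSpace n R).isBasis_affineOpens.exists_subset_of_mem_open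
      (show x ∈ ((W ⊓ QCohLib.stdOpen n R a : (CohB1.ProjSpace n R).Opens) : Set P) from ⟨hx, ha⟩) (W ⊓ _).isOpen
    exact ⟨⟨A, hA⟩, ⟨a, fun y hy => (hAW hy).2⟩, hxA, fun y hy => (hAW hy).1⟩
  let base : ∀ (U : (CohB1.ProjSpace n R).affineOpens) (a : Fin (n + 1)) (_ : U.1 ≤ QCohLib.stdOpen n R a),
      Idx n p → Γ(L, U.1) := fun U a h s =>
    (D.φ U).symm (exteriorPower.ιMulti_family Γ(CohB1.ProjSpace n R, U.1) p (eV n R h) s)
  have hbase_res : ∀ {U V : (CohB1.ProjSpace n R).affineOpens} {a : Fin (n + 1)} (hU : U.1 ≤ QCohLib.stdOpen n R a)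
      (h : V.1 ≤ U.1) (s : Idx n p), AmpleLib.res L h (base U a hU s) = base V a (h.trans hU) s := by
    intro U V a hU h s
    refine (D.nat U V h _).trans (congrArg (D.φ V).symm (congrArg _ (funext fun j => ?_)))
    exact eV_res n R hU h _
  have hbase_change : ∀ {U : (CohB1.ProjSpace n R).affineOpens} {a b : Fin (n + 1)}
      (ha : U.1 ≤ QCohLib.stdOpen n R a) (hb : U.1 ≤ QCohLib.stdOpen n R b) (s : Idx n p)
      (w : Γ(CohB1.ProjSpace n R, U.1)), g1 n R hb = w • g1 n R ha → base U b hb s = w ^ p • base U a ha s := by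
    intro U a b ha hb s w hw
    show (D.φ U).symm _ = _ • (D.φ U).symm _
    rw [← map_smul]
    refine congrArg _ ?_
    have he : ∀ j, eV n R hb j = w • eV n R ha j := fun j => by
      rw [eV, hw]
      exact QCohLib.app_smul _ _ w _
    show exteriorPower.ιMulti _ p (fun i => eV n R hb _) = w ^ p • exteriorPower.ιMulti _ p (fun i => eV n R ha _)
    simp only [he]
    refine ((exteriorPower.ιMulti Γ(CohB1.ProjSpace n R, U.1) p (M := Γ(mid n R, U.1))).toMultilinearMap.map_smul_univ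
      (fun _ => w) _).trans ?_
    rw [Fin.prod_const]
    rfl
  let f : Idx n p → ∀ U : (CohB1.ProjSpace n R).affineOpens, Pc U →
      (Γ(O' (-(p : ℤ)), U.1) →ₗ[Γ(CohB1.ProjSpace n R, U.1)] Γ(L, U.1)) := fun s U hU =>
    (LinearMap.toSpanSingleton _ _ (base U hU.choose hU.choose_spec s)).comp
      (cf n R p hU.choose_spec).symm.toLinearMap
  have hf_eq : ∀ (s : Idx n p) (U : (CohB1.ProjSpace n R).affineOpens) (hU : Pc U) (a : Fin (n + 1))
      (ha : U.1 ≤ QCohLib.stdOpen n R a) (r : Γ(CohB1.ProjSpace n R, U.1)),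
      f s U hU (r • gP n R p ha) = r • base U a ha s := by
    intro s U hU a ha r
    obtain ⟨w, hw1, hw2⟩ := exists_change n R p hU.choose_spec ha
    rw [map_smul, hw2, map_smul, hbase_change hU.choose_spec ha s w hw1]
    refine congrArg (fun z : Γ(L, U.1) => r • w ^ p • z) ?_
    show ((cf n R p hU.choose_spec).symm (gP n R p hU.choose_spec)) • base U hU.choose hU.choose_spec s = _
    rw [show (cf n R p hU.choose_spec).symm (gP n R p hU.choose_spec) = 1 from
      (LinearEquiv.symm_apply_eq _).2 (one_smul Γ(CohB1.ProjSpace n R, U.1) (gP n R p hU.choose_spec)).symm, one_smul]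
  have hf : ∀ s (U V : (CohB1.ProjSpace n R).affineOpens) (hU : Pc U) (hV : Pc V) (h : V.1 ≤ U.1) (t : Γ(O' (-(p : ℤ)), U.1)),
      AmpleLib.res L h (f s U hU t) = f s V hV (AmpleLib.res (O' (-(p : ℤ))) h t) := by
    intro s U V hU hV h t
    obtain ⟨r, rfl⟩ := (cf n R p hU.choose_spec).surjective t
    rw [cf_apply, hf_eq, AmpleLib.res_smul, AmpleLib.res_smul, hbase_res]
    have hg : AmpleLib.res (O' (-(p : ℤ))) h (gP n R p hU.choose_spec) = gP n R p (h.trans hU.choose_spec) :=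
      AmpleLib.res_res _ _ _ _
    rw [hg, hf_eq]
  choose ψ hψ using fun s => WedgeLib.exists_hom_on Pc hPc (f s) (hf s)
  let Ψ := biproduct.desc ψ
  have hΨ : ∀ (U : (CohB1.ProjSpace n R).affineOpens) (hU : Pc U) (c : Idx n p → Γ(O' (-(p : ℤ)), U.1)),
      Ψ.app U.1 (tuple (fun _ : Idx n p => O' (-(p : ℤ))) c) = ∑ s, f s U hU (c s) := by
    intro U hU c
    rw [tuple, map_sum]
    refine Finset.sum_congr rfl fun s _ => ?_
    rw [← EulerPnLib.app_comp', biproduct.ι_desc, hψ s U hU]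
  have hbij : ∀ (U : (CohB1.ProjSpace n R).affineOpens), Pc U → Function.Bijective (Ψ.app U.1) := by
    intro U hU
    let h := hU.choose_spec
    obtain ⟨b, hb⟩ := exists_basis_eV n R h
    let B : Module.Basis (Idx n p) Γ(CohB1.ProjSpace n R, U.1) Γ(L, U.1) := (b.exteriorPower p).map (D.φ U).symm
    have hB : ∀ s, B s = base U _ h s := fun s => by
      rw [Module.Basis.map_apply, exteriorPower.basis_apply, hb]
      rfl
    let T : (Idx n p → Γ(CohB1.ProjSpace n R, U.1)) → Γ(⨁ fun _ : Idx n p => O' (-(p : ℤ)), U.1) := fun c =>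
      tuple _ fun s => cf n R p h (c s)
    have hT : Function.Bijective T := by
      refine ⟨fun c d hcd => funext fun s => ?_, fun v => ⟨fun s => (cf n R p h).symm
        ((biproduct.π (fun _ : Idx n p => O' (-(p : ℤ))) s).app U.1 v), biprod_ext _ fun s => ?_⟩⟩
      · have h1 := congrArg (fun z => (biproduct.π (fun _ : Idx n p => O' (-(p : ℤ))) s).app U.1 z) hcd
        simp only [T, π_tuple] at h1
        exact (cf n R p h).injective h1
      · simp only [T, π_tuple, LinearEquiv.apply_symm_apply]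
    refine (Function.Bijective.of_comp_iff _ hT).1 ?_
    rw [show (Ψ.app U.1) ∘ T = B.equivFun.symm from funext fun c => ?_]
    · exact B.equivFun.symm.bijective
    · show Ψ.app U.1 (T c) = _
      rw [hΨ U hU, Module.Basis.equivFun_symm_apply]
      refine Finset.sum_congr rfl fun s _ => ?_
      rw [cf_apply, hf_eq, hB]
  let g : ∀ U : (CohB1.ProjSpace n R).affineOpens, Pc U →
      (Γ(L, U.1) →ₗ[Γ(CohB1.ProjSpace n R, U.1)] Γ(⨁ fun _ : Idx n p => O' (-(p : ℤ)), U.1)) := fun U hU =>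
    (LinearEquiv.ofBijective (QCohLib.appLin Ψ U.1) (hbij U hU)).symm.toLinearMap
  obtain ⟨χ, hχ⟩ := WedgeLib.exists_hom_on Pc hPc g fun U V hU hV h t => by
    obtain ⟨v, rfl⟩ := (hbij U hU).2 t
    have e : ∀ (W : (CohB1.ProjSpace n R).affineOpens) (hW : Pc W) w, g W hW (Ψ.app W.1 w) = w := fun W hW w =>
      (LinearEquiv.ofBijective (QCohLib.appLin Ψ W.1) (hbij W hW)).symm_apply_apply w
    rw [e U hU, show AmpleLib.res L h (Ψ.app U.1 v) = Ψ.app V.1 (AmpleLib.res _ h v) from
      (QCohLib.app_map Ψ (homOfLE h) v).symm, e V hV]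
  refine ⟨⟨Ψ, χ, Scheme.Modules.hom_ext _ _ fun W => ConcreteCategory.hom_ext _ _ fun v => ?_,
    Scheme.Modules.hom_ext _ _ fun W => ConcreteCategory.hom_ext _ _ fun v => ?_⟩⟩
  · refine WedgeLib.ext_on Pc hPc _ _ fun A hA hAW => ?_
    show AmpleLib.res _ hAW (χ.app W (Ψ.app W v)) = AmpleLib.res _ hAW v
    rw [show AmpleLib.res _ hAW (χ.app W (Ψ.app W v)) = χ.app A.1 (Ψ.app A.1 (AmpleLib.res _ hAW v)) from
      (QCohLib.app_map χ (homOfLE hAW) _).symm.trans (congrArg (χ.app A.1) (QCohLib.app_map Ψ (homOfLE hAW) _).symm),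
      hχ A hA]
    exact (LinearEquiv.ofBijective (QCohLib.appLin Ψ A.1) (hbij A hA)).symm_apply_apply _
  · refine WedgeLib.ext_on Pc hPc _ _ fun A hA hAW => ?_
    show AmpleLib.res _ hAW (Ψ.app W (χ.app W v)) = AmpleLib.res _ hAW v
    rw [show AmpleLib.res _ hAW (Ψ.app W (χ.app W v)) = Ψ.app A.1 (χ.app A.1 (AmpleLib.res _ hAW v)) from
      (QCohLib.app_map Ψ (homOfLE hAW) _).symm.trans (congrArg (Ψ.app A.1) (QCohLib.app_map χ (homOfLE hAW) _).symm),
      hχ A hA]
    exact (LinearEquiv.ofBijective (QCohLib.appLin Ψ A.1) (hbij A hA)).apply_symm_apply _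

end HodgePnLib
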