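import Groth.Agent.HodgePnLib.Dims
import Groth.Agent.GenusOneSSLib.Basic

/-!
# The Bott formula and its symmetry
-/

set_option autoImplicit false
set_option linter.style.haveILetI false
set_option linter.unusedSectionVars false
set_option maxHeartbeats 1000000
set_option backward.isDefEq.respectTransparency false
set_option backward.isDefEq.respectTransparency.types false
universe u

open CategoryTheory CategoryTheory.Limits AlgebraicGeometry TopologicalSpace Opposite

noncomputable section

namespace HodgePnLib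

variable (k : Type u) [Field k]

theorem twist_iso_unit_point (t : ℤ) :
    Nonempty (Twist.twistProjSpace 0 k t ≅ Coh.structureModule (CohB1.ProjSpace 0 k)) := by
  have neg : ∀ p : ℕ,
      Nonempty (Twist.twistProjSpace 0 k (-(p : ℤ)) ≅ Coh.structureModule (CohB1.ProjSpace 0 k)) := by
    intro p
    have htop : (⊤ : (CohB1.ProjSpace 0 k).Opens) ≤ QCohLib.stdOpen 0 k 0 := fun x _ => by
      obtain ⟨a, ha⟩ := Opens.mem_iSup.1
        (show x ∈ ⨆ a, QCohLib.stdOpen 0 k a by rw [QCohLib.iSup_stdOpen]; trivial)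
      rwa [Subsingleton.elim (α := Fin 1) a 0] at ha
    haveI := AmpleLib.isIso_unitHom (gP 0 k p htop) (((genP 0 k p 0).genOn).res htop)
    exact ⟨(asIso (QCohLib.unitHom _ (gP 0 k p htop))).symm⟩
  rcases Int.eq_nat_or_neg t with ⟨p, rfl | rfl⟩
  · obtain ⟨e⟩ := neg p
    obtain ⟨a⟩ := PicPnLib.twist_add 0 k (p : ℤ) (-(p : ℤ))
    obtain ⟨z⟩ := PicPnLib.twist_zero 0 k
    exact ⟨(PicPnLib.unitRight _).symm ≪≫ HilbPolyLib.congrRight _ e.symm ≪≫ a ≪≫
      eqToIso (congrArg _ (add_neg_cancel (p : ℤ))) ≪≫ z⟩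
  · exact neg p

theorem finrank_unit (n : ℕ) :
    Module.finrank k (Coh.HH (CohB1.ProjSpace n k) (Coh.structureModule (CohB1.ProjSpace n k)) 0) = 1 := by
  haveI := VBPnLib.isIntegral_pn k n
  let X := CohB1.ProjSpace n k
  have h1 : ∀ f : Coh.structureModule X ⟶ Coh.structureModule X, ∃ c : k, c • 𝟙 (Coh.structureModule X) = f :=
    fun f => (EulerPnLib.exists_scalar n k CurvLib.isInvertible_structureModule f).imp fun c hc => hc.symm
  rw [← (GenusOneSSLib.homEquiv (k := k) (Coh.structureModule X)).finrank_eq]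
  refine (finrank_eq_one_iff_of_nonzero' (𝟙 (Coh.structureModule X)) ?_).2 h1
  intro h0
  obtain ⟨x⟩ : Nonempty X := inferInstance
  have h2 := congrArg (fun φ : Coh.structureModule X ⟶ Coh.structureModule X => φ.app ⊤ (1 : Γ(X, ⊤))) h0
  exact one_ne_zero (α := Γ(X, ⊤)) h2

theorem point_finrank (t : ℤ) {L : (CohB1.ProjSpace 0 k).Modules} (hL : IsOm 0 k 0 L) :
    Module.finrank k (Coh.HH (CohB1.ProjSpace 0 k) (CohB1.tensorMod L (Twist.twistProjSpace 0 k t)) 0) = 1 := by
  obtain ⟨e⟩ := twist_iso_unit_point k t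
  refine (hd_zero_iso 0 k hL t 0).trans ?_
  rw [finrank_congr 0 k e, finrank_unit]

theorem bott_zero_result (r p : ℕ) (hp : p ≤ r) {L : (CohB1.ProjSpace r k).Modules} (hL : IsOm r k p L)
    (d : ℕ) (hd : p < d) :
    Module.finrank k (Coh.HH (CohB1.ProjSpace r k) (CohB1.tensorMod L (Twist.twistProjSpace r k (d : ℤ))) 0) =
      Nat.choose (d + r - p) d * Nat.choose (d - 1) p := by
  rcases Nat.eq_zero_or_pos r with rfl | hr
  · obtain rfl : p = 0 := by omega
    rw [point_finrank k _ hL, Nat.choose_zero_right, mul_one, Nat.sub_zero, Nat.add_zero, Nat.choose_self]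
  · exact bott_zero r k hr d (by omega) p hp L hL

theorem bott_top_result (r p : ℕ) (hp : p ≤ r) {L : (CohB1.ProjSpace r k).Modules} (hL : IsOm r k p L)
    (e : ℕ) (he : r < e + p) :
    Module.finrank k (Coh.HH (CohB1.ProjSpace r k) (CohB1.tensorMod L (Twist.twistProjSpace r k (-(e : ℤ)))) r) =
      Nat.choose (e + p) e * Nat.choose (e - 1) (r - p) := by
  rcases Nat.eq_zero_or_pos r with rfl | hr
  · obtain rfl : p = 0 := by omega
    rw [point_finrank k _ hL, Nat.choose_zero_right, mul_one, Nat.add_zero, Nat.choose_self]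
  · exact bott_top r k hr e (by omega) p hp L hL

theorem hodge_result (r : ℕ) (hr : 1 ≤ r) (j : ℕ) {L : (CohB1.ProjSpace r k).Modules} (hL : IsOm r k j L) :
    (∀ i : ℕ, (i ≠ j ∨ r < i) → Subsingleton (Coh.HH (CohB1.ProjSpace r k) L i)) ∧
      (j ≤ r → Module.finrank k (Coh.HH (CohB1.ProjSpace r k) L j) = 1) := by
  refine ⟨fun i hi => sub_untwisted r k hr j i (by omega) hL, fun hj => ?_⟩
  obtain ⟨e⟩ := nonempty_hodge_equiv r k hr j hj L hL
  rw [e.finrank_eq, Module.finrank_self]

/-- The dimension of `H^q(Ω^p(d))` in closed form. -/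
theorem bott_all (n : ℕ) (hn : 1 ≤ n) (p q : ℕ) (hp : p ≤ n) (hq : q ≤ n) (d : ℤ)
    {L : (CohB1.ProjSpace n k).Modules} (hL : IsOm n k p L) :
    hd n k L d q = if d = 0 then (if p = q then 1 else 0)
      else if 0 < d then (if q = 0 then (d.toNat + n - p).choose d.toNat * (d.toNat - 1).choose p else 0)
      else (if q = n then ((-d).toNat + p).choose (-d).toNat * ((-d).toNat - 1).choose (n - p) else 0) := by
  rcases lt_trichotomy d 0 with h | rfl | h
  · obtain ⟨e, rfl⟩ : ∃ e : ℕ, d = -(e : ℤ) := ⟨(-d).toNat, by omega⟩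
    rw [if_neg (by omega), if_neg (by omega), show (- -(e : ℤ)).toNat = e by omega]
    split_ifs with hq'
    · subst hq'
      exact bott_top q k hn e (by omega) p hp L hL
    · haveI := twisted_vanish n k hn p (-(e : ℤ)) (by omega) q (by omega) (by omega) hL
      exact Module.finrank_zero_of_subsingleton
  · rw [if_pos rfl]
    obtain ⟨z⟩ := tensor_zero_iso n k L
    refine (finrank_congr n k z q).trans ?_
    split_ifs with hq'
    · subst hq'
      exact (hodge_result k n hn p hL).2 hp
    · haveI := (hodge_result k n hn p hL).1 q (Or.inl (Ne.symm hq'))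
      exact Module.finrank_zero_of_subsingleton
  · obtain ⟨e, rfl⟩ : ∃ e : ℕ, d = (e : ℤ) := ⟨d.toNat, by omega⟩
    rw [if_neg (by omega), if_pos h, Int.toNat_natCast]
    split_ifs with hq'
    · subst hq'
      exact bott_zero n k hn e (by omega) p hp L hL
    · haveI := twisted_vanish n k hn p (e : ℤ) (by omega) q (by omega) (by omega) hL
      exact Module.finrank_zero_of_subsingleton

theorem symm_result (r p q : ℕ) (hp : p ≤ r) (hq : q ≤ r) {L L' : (CohB1.ProjSpace r k).Modules}
    (hL : IsOm r k p L) (hL' : IsOm r k (r - p) L') (d : ℤ) :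
    Module.finrank k (Coh.HH (CohB1.ProjSpace r k) (CohB1.tensorMod L (Twist.twistProjSpace r k d)) q) =
      Module.finrank k (Coh.HH (CohB1.ProjSpace r k)
        (CohB1.tensorMod L' (Twist.twistProjSpace r k (-d))) (r - q)) := by
  rcases Nat.eq_zero_or_pos r with rfl | hr
  · obtain rfl : p = 0 := by omega
    obtain rfl : q = 0 := by omega
    rw [point_finrank k d hL]
    exact (point_finrank k (-d) hL').symm
  refine (bott_all k r hr p q hp hq d hL).trans (Eq.trans ?_
    (bott_all k r hr (r - p) (r - q) (by omega) (by omega) (-d) hL').symm)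
  rcases lt_trichotomy d 0 with h | rfl | h
  · rw [if_neg h.ne, if_neg (by omega), if_neg (by omega : ¬ -d = 0), if_pos (by omega : 0 < -d)]
    by_cases hq' : q = r
    · rw [if_pos hq', if_pos (by omega), show (-d).toNat + r - (r - p) = (-d).toNat + p by omega]
    · rw [if_neg hq', if_neg (by omega)]
  · rw [if_pos rfl, if_pos (neg_zero : -(0 : ℤ) = 0)]
    by_cases hq' : p = q
    · rw [if_pos hq', if_pos (by omega)]
    · rw [if_neg hq', if_neg (by omega)]
  · rw [if_neg h.ne', if_pos h, if_neg (by omega : ¬ -d = 0), if_neg (by omega : ¬ 0 < -d), neg_neg,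
      show r - (r - p) = p by omega]
    by_cases hq' : q = 0
    · rw [if_pos hq', if_pos (by omega), show d.toNat + r - p = d.toNat + (r - p) by omega]
    · rw [if_neg hq', if_neg (by omega)]

end HodgePnLib
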